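import Mathlib

/-!
# Local flat unramified algebras over a valuation ring are valuation rings

`A` a valuation ring, `E` a local `A`-algebra that is flat, formally unramified and essentially
of finite type.  Then every ideal of `E` is `A`-torsion-free, hence `A`-flat, hence `E`-flat
(Iversen I.2.7, `Algebra.FormallyUnramified.flat_of_restrictScalars`), so finitely generated ideals
of `E` are free, hence principal and generated by a nonzerodivisor.  So `E` is a local Bézout
domain, i.e. a valuation ring.
-/

set_option autoImplicit false
universe u

namespace Groth.Agent.Helper19.ValEt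

open Algebra

section L1

variable (A E : Type u) [CommRing A] [IsDomain A] [ValuationRing A]
  [CommRing E] [Algebra A E] [Module.Flat A E] [Algebra.FormallyUnramified A E]
  [Algebra.EssFiniteType A E]

include A in
/-- every ideal of `E` is flat as an `E`-module. -/
theorem flat_ideal (J : Ideal E) : Module.Flat E J := by
  haveI : Module.Flat A J := by
    rw [Module.Flat.flat_iff_torsion_eq_bot_of_isBezout, eq_bot_iff]
    rintro ⟨x, hx⟩ ⟨⟨a, ha⟩, h⟩
    have h' : a • x = 0 := by
      have := congrArg Subtype.val h
      simpa using this
    have hx0 : x = 0 := by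
      have h1 : (⟨a, ha⟩ : nonZeroDivisors A) • x = 0 := h'
      have : x ∈ Submodule.torsion A E := ⟨⟨a, ha⟩, h1⟩
      rw [Module.Flat.torsion_eq_bot] at this
      simpa using this
    simp [hx0]
  exact Algebra.FormallyUnramified.flat_of_restrictScalars (R := A) (S := E) J

variable [IsLocalRing E]

include A in
/-- a finitely generated ideal of `E` is zero or generated by a nonzerodivisor. -/
theorem fg_ideal_principal (J : Ideal E) (hJ : J.FG) :
    J = ⊥ ∨ ∃ x : E, J = Ideal.span {x} ∧ ∀ e : E, e * x = 0 → e = 0 := by
  haveI := flat_ideal A E J
  haveI : Module.Finite E J := Module.Finite.iff_fg.mpr hJ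
  haveI : Module.Free E J := Module.free_of_flat_of_isLocalRing
  let b := Module.Free.chooseBasis E J
  have hsub : ∀ i j : Module.Free.ChooseBasisIndex E J, i = j := by
    intro i j
    by_contra hij
    have hrel : ((b j : J) : E) • b i - ((b i : J) : E) • b j = 0 := by
      apply Subtype.ext
      simp [mul_comm]
    have := congrArg (fun z => b.repr z i) hrel
    simp only [map_sub, map_smul, Module.Basis.repr_self, Finsupp.smul_single, smul_eq_mul,
      mul_one, Finsupp.coe_sub, Pi.sub_apply, Finsupp.single_eq_same, map_zero,
      Finsupp.coe_zero, Pi.zero_apply] at this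
    rw [Finsupp.single_eq_of_ne (by exact fun h => hij h), sub_zero] at this
    have h0 : b j = 0 := Subtype.ext this
    exact b.ne_zero j h0
  by_cases hne : Nonempty (Module.Free.ChooseBasisIndex E J)
  · right
    obtain ⟨i⟩ := hne
    refine ⟨(b i : J), ?_, ?_⟩
    · apply le_antisymm
      · intro y hy
        have hy' : (⟨y, hy⟩ : J) ∈ Submodule.span E (Set.range b) := by
          rw [b.span_eq]; trivial
        have hr : Set.range b = {b i} := by
          ext z
          constructor
          · rintro ⟨j, rfl⟩
            rw [hsub j i]; rfl
          · rintro rfl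
            exact ⟨i, rfl⟩
        rw [hr, Submodule.mem_span_singleton] at hy'
        obtain ⟨e, he⟩ := hy'
        have := congrArg Subtype.val he
        simp only [Submodule.coe_smul, smul_eq_mul] at this
        rw [Ideal.mem_span_singleton']
        exact ⟨e, this⟩
      · rw [Ideal.span_singleton_le_iff_mem]
        exact (b i).2
    · intro e he
      have h1 : e • b i = 0 := by
        apply Subtype.ext
        simpa using he
      have := congrArg (fun z => b.repr z i) h1
      simpa using this
  · left
    rw [not_nonempty_iff] at hne
    rw [eq_bot_iff]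
    intro y hy
    have hy' : (⟨y, hy⟩ : J) ∈ Submodule.span E (Set.range b) := by
      rw [b.span_eq]; trivial
    rw [Set.range_eq_empty, Submodule.span_empty] at hy'
    have := congrArg Subtype.val ((Submodule.mem_bot E).mp hy')
    simpa using this

include A in
theorem isDomain_of_local : IsDomain E := by
  haveI : Nontrivial E := inferInstance
  haveI : NoZeroDivisors E := by
    refine ⟨fun {x y} hxy => ?_⟩
    by_cases hy : y = 0
    · exact Or.inr hy
    left
    rcases fg_ideal_principal A E (Ideal.span {y}) ⟨{y}, by simp⟩ with h | ⟨z, hz, hreg⟩
    · exact absurd (Ideal.span_singleton_eq_bot.mp h) hy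
    · have hzmem : z ∈ Ideal.span {y} := by rw [hz]; exact Ideal.mem_span_singleton_self z
      obtain ⟨e, he⟩ := Ideal.mem_span_singleton'.mp hzmem
      apply hreg
      rw [← he]
      calc x * (e * y) = e * (x * y) := by ring
        _ = 0 := by rw [hxy, mul_zero]
  exact NoZeroDivisors.to_isDomain E

include A in
theorem isBezout_of_local : IsBezout E := by
  refine ⟨fun I hI => ?_⟩
  rcases fg_ideal_principal A E I hI with h | ⟨z, hz, -⟩
  · rw [h]; exact bot_isPrincipal
  · exact ⟨⟨z, hz⟩⟩

include A in
theorem valuationRing_of_local [IsDomain E] : ValuationRing E := by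
  haveI := isBezout_of_local A E
  infer_instance

end L1

end Groth.Agent.Helper19.ValEt
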