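import Mathlib

/-!
# Descent of a principal ideal along a flat map
-/

set_option autoImplicit false
universe u

namespace Groth.Agent.Helper19.ValEt

open TensorProduct

/-- Let `C` be a flat `A`-algebra and `c : C`.  If `1 ⊗ c` divides `c ⊗ 1` in `C ⊗[A] C`, then
`c` lies in the extension of the contraction of `(c)`. -/
theorem mem_map_comap_of_tmul_dvd (A C : Type u) [CommRing A] [CommRing C] [Algebra A C]
    [Module.Flat A C] (c : C) (h : ((1 : C) ⊗ₜ[A] c) ∣ (c ⊗ₜ[A] (1 : C))) :
    c ∈ ((Ideal.span {c}).comap (algebraMap A C)).map (algebraMap A C) := by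
  set I : Ideal A := (Ideal.span {c}).comap (algebraMap A C) with hI
  let q : C →ₗ[A] C ⧸ Ideal.span {c} := (Submodule.mkQ (Ideal.span {c})).restrictScalars A
  let f : A →ₗ[A] C ⧸ Ideal.span {c} := q ∘ₗ Algebra.linearMap A C
  have hker : LinearMap.ker f = I := by
    ext a
    simp only [f, q, LinearMap.mem_ker, LinearMap.coe_comp, Function.comp_apply,
      Algebra.linearMap_apply, LinearMap.coe_restrictScalars, Submodule.mkQ_apply,
      Submodule.Quotient.mk_eq_zero, hI, Ideal.mem_comap]
  let φ : A ⧸ I →ₗ[A] C ⧸ Ideal.span {c} := Submodule.liftQ I f hker.ge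
  have hφ : Function.Injective φ := by
    rw [← LinearMap.ker_eq_bot]
    exact Submodule.ker_liftQ_eq_bot' I f hker.symm
  have hinj := Module.Flat.lTensor_preserves_injective_linearMap (M := C) φ hφ
  -- the element
  have hz : c ⊗ₜ[A] (1 : A ⧸ I) = 0 := by
    apply hinj
    rw [map_zero, LinearMap.lTensor_tmul]
    have h1 : φ 1 = q 1 := by
      change φ (Submodule.Quotient.mk 1) = _
      rw [Submodule.liftQ_apply]
      simp [f]
    rw [h1]
    have hψ : ∀ d : C ⊗[A] C, (q.lTensor C) (((1 : C) ⊗ₜ[A] c) * d) = 0 := by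
      intro d
      induction d using TensorProduct.induction_on with
      | zero => simp
      | tmul x y =>
        rw [Algebra.TensorProduct.tmul_mul_tmul, LinearMap.lTensor_tmul]
        have : q (c * y) = 0 := by
          simp only [q, LinearMap.coe_restrictScalars, Submodule.mkQ_apply,
            Submodule.Quotient.mk_eq_zero]
          exact Ideal.mul_mem_right _ _ (Ideal.mem_span_singleton_self c)
        rw [this, tmul_zero]
      | add x y hx hy => rw [mul_add, map_add, hx, hy, add_zero]
    obtain ⟨d, hd⟩ := h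
    have := hψ d
    rw [← hd, LinearMap.lTensor_tmul] at this
    exact this
  have h2 := congrArg (TensorProduct.tensorQuotEquivQuotSMul C I) hz
  rw [map_zero] at h2
  have h3 : (1 : A ⧸ I) = Ideal.Quotient.mk I 1 := rfl
  rw [h3, TensorProduct.tensorQuotEquivQuotSMul_tmul_mk, one_smul,
    Submodule.Quotient.mk_eq_zero, Ideal.smul_top_eq_map] at h2
  exact h2

end Groth.Agent.Helper19.ValEt
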