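import Mathlib

/-!
# Unramified extensions of domains are algebraic; torsion of value group quotient
-/

set_option autoImplicit false
universe u

namespace Groth.Agent.Helper19.ValEt

open Algebra

attribute [local instance] FractionRing.liftAlgebra in
/-- An essentially finite type, formally unramified extension of domains is algebraic. -/
theorem isAlgebraic_of_unramified (A C : Type u) [CommRing A] [IsDomain A] [CommRing C] [IsDomain C]
    [Algebra A C] [FaithfulSMul A C] [Algebra.FormallyUnramified A C]
    [Algebra.EssFiniteType A C] : Algebra.IsAlgebraic A C := by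
  haveI : FaithfulSMul A (FractionRing C) :=
    (faithfulSMul_iff_algebraMap_injective A (FractionRing C)).mpr (by
      rw [IsScalarTower.algebraMap_eq A C (FractionRing C)]
      exact (IsFractionRing.injective C (FractionRing C)).comp
        (FaithfulSMul.algebraMap_injective A C))
  haveI : Algebra.FormallyUnramified A (FractionRing C) := inferInstance
  haveI : Algebra.FormallyUnramified (FractionRing A) (FractionRing C) :=
    Algebra.FormallyUnramified.of_restrictScalars A (FractionRing A) (FractionRing C)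
  haveI : Algebra.EssFiniteType A (FractionRing C) := inferInstance
  haveI : Algebra.EssFiniteType (FractionRing A) (FractionRing C) :=
    Algebra.EssFiniteType.of_comp A (FractionRing A) (FractionRing C)
  haveI : Module.Finite (FractionRing A) (FractionRing C) :=
    Algebra.FormallyUnramified.finite_of_free (FractionRing A) (FractionRing C)
  haveI : Algebra.IsAlgebraic (FractionRing A) (FractionRing C) := inferInstance
  rw [IsFractionRing.isAlgebraic_iff' A C (FractionRing C)]
  constructor
  intro x
  exact (IsFractionRing.isAlgebraic_iff A (FractionRing A) (FractionRing C)).mpr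
    (Algebra.IsAlgebraic.isAlgebraic x)

/-- in a valuation ring, a nonempty finite family has an element dividing all the others. -/
theorem exists_dvd_all {C : Type*} [CommRing C] [IsDomain C] [ValuationRing C] {ι : Type*}
    (S : Finset ι) (hS : S.Nonempty) (t : ι → C) : ∃ i₀ ∈ S, ∀ i ∈ S, t i₀ ∣ t i := by
  classical
  induction hS using Finset.Nonempty.cons_induction with
  | singleton a => exact ⟨a, by simp, by simp⟩
  | cons a s ha hs ih =>
    obtain ⟨i₀, hi₀, h⟩ := ih
    rcases ValuationRing.dvd_total (t a) (t i₀) with h1 | h1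
    · refine ⟨a, by simp, ?_⟩
      intro i hi
      rw [Finset.mem_cons] at hi
      rcases hi with rfl | hi
      · exact dvd_rfl
      · exact h1.trans (h i hi)
    · refine ⟨i₀, by simp [hi₀], ?_⟩
      intro i hi
      rw [Finset.mem_cons] at hi
      rcases hi with rfl | hi
      · exact h1
      · exact h i hi

/-- If `C` is a valuation ring algebraic over `A`, then for every nonzero `c : C` some power of
`c` is, up to a unit and a nonzero factor from `A`, an element of `A`. -/
theorem exists_pow_eq_unit_mul (A C : Type u) [CommRing A] [IsDomain A] [CommRing C] [IsDomain C]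
    [ValuationRing C] [Algebra A C] (hinj : Function.Injective (algebraMap A C))
    [Algebra.IsAlgebraic A C] (c : C) (hc : c ≠ 0) :
    ∃ (n : ℕ) (a a' : A) (w : Cˣ), 0 < n ∧ a ≠ 0 ∧
      algebraMap A C a * c ^ n = w * algebraMap A C a' := by
  classical
  obtain ⟨p, hp0, hp⟩ := Algebra.IsAlgebraic.isAlgebraic (R := A) c
  rw [Polynomial.aeval_def, Polynomial.eval₂_eq_sum, Polynomial.sum_def] at hp
  set t : ℕ → C := fun i => algebraMap A C (p.coeff i) * c ^ i with ht
  have hSne : p.support.Nonempty := by
    rw [Finset.nonempty_iff_ne_empty, Ne, Polynomial.support_eq_empty]; exact hp0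
  obtain ⟨i₀, hi₀, hdiv⟩ := exists_dvd_all p.support hSne t
  have htne : ∀ i ∈ p.support, t i ≠ 0 := by
    intro i hi
    rw [Polynomial.mem_support_iff] at hi
    refine mul_ne_zero ?_ (pow_ne_zero _ hc)
    rw [Ne, map_eq_zero_iff _ hinj]; exact hi
  have hex : ∀ i, ∃ u : C, i ∈ p.support → t i = t i₀ * u := by
    intro i
    by_cases hi : i ∈ p.support
    · obtain ⟨u, hu⟩ := hdiv i hi
      exact ⟨u, fun _ => hu⟩
    · exact ⟨0, fun h => absurd h hi⟩
  choose u hu using hex
  have hu0 : u i₀ = 1 := by
    have := hu i₀ hi₀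
    have h2 : t i₀ * 1 = t i₀ * u i₀ := by rw [mul_one]; exact this
    exact (mul_left_cancel₀ (htne i₀ hi₀) h2).symm
  have hsum : ∑ i ∈ p.support, u i = 0 := by
    have h1 : ∑ i ∈ p.support, t i = t i₀ * ∑ i ∈ p.support, u i := by
      rw [Finset.mul_sum]
      exact Finset.sum_congr rfl (fun i hi => hu i hi)
    have h2 : ∑ i ∈ p.support, t i = 0 := hp
    rw [h1] at h2
    rcases mul_eq_zero.mp h2 with h | h
    · exact absurd h (htne i₀ hi₀)
    · exact h
  have hex2 : ∃ i₁ ∈ p.support.erase i₀, IsUnit (u i₁) := by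
    by_contra hcon
    push Not at hcon
    have hmem : ∑ i ∈ p.support.erase i₀, u i ∈ IsLocalRing.maximalIdeal C :=
      Ideal.sum_mem _ (fun i hi => (IsLocalRing.mem_maximalIdeal _).mpr (hcon i hi))
    rw [← Finset.add_sum_erase _ _ hi₀, hu0] at hsum
    have h1 : (1 : C) = - ∑ i ∈ p.support.erase i₀, u i := by
      rw [eq_neg_iff_add_eq_zero]; exact hsum
    have : (1 : C) ∈ IsLocalRing.maximalIdeal C := by
      rw [h1]; exact neg_mem hmem
    exact (IsLocalRing.maximalIdeal.isMaximal C).ne_top
      ((Ideal.eq_top_iff_one _).mpr this)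
  obtain ⟨i₁, hi₁, hunit⟩ := hex2
  rw [Finset.mem_erase] at hi₁
  obtain ⟨hne, hi₁S⟩ := hi₁
  have hrel := hu i₁ hi₁S
  simp only [ht] at hrel
  obtain ⟨w, hw⟩ := hunit
  rcases lt_or_gt_of_ne hne with hlt | hgt
  · -- i₁ < i₀
    refine ⟨i₀ - i₁, p.coeff i₀, p.coeff i₁, w⁻¹, Nat.sub_pos_of_lt hlt,
      Polynomial.mem_support_iff.mp hi₀, ?_⟩
    have hpow : c ^ i₀ = c ^ i₁ * c ^ (i₀ - i₁) := by
      rw [← pow_add]; congr 1; omega
    rw [hpow, ← hw] at hrel
    have h3 : c ^ i₁ * (algebraMap A C (p.coeff i₁)) =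
        c ^ i₁ * (algebraMap A C (p.coeff i₀) * c ^ (i₀ - i₁) * w) := by
      rw [mul_comm]; rw [hrel]; ring
    have h4 := mul_left_cancel₀ (pow_ne_zero _ hc) h3
    rw [h4]
    rw [mul_comm _ (w : C), ← mul_assoc]
    simp
  · -- i₀ < i₁
    refine ⟨i₁ - i₀, p.coeff i₁, p.coeff i₀, w, Nat.sub_pos_of_lt hgt,
      Polynomial.mem_support_iff.mp hi₁S, ?_⟩
    have hpow : c ^ i₁ = c ^ i₀ * c ^ (i₁ - i₀) := by
      rw [← pow_add]; congr 1; omega
    rw [hpow, ← hw] at hrel
    have h3 : c ^ i₀ * (algebraMap A C (p.coeff i₁) * c ^ (i₁ - i₀)) =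
        c ^ i₀ * (w * algebraMap A C (p.coeff i₀)) := by
      calc c ^ i₀ * (algebraMap A C (p.coeff i₁) * c ^ (i₁ - i₀))
          = algebraMap A C (p.coeff i₁) * (c ^ i₀ * c ^ (i₁ - i₀)) := by ring
        _ = algebraMap A C (p.coeff i₀) * c ^ i₀ * w := hrel
        _ = c ^ i₀ * (w * algebraMap A C (p.coeff i₀)) := by ring
    exact mul_left_cancel₀ (pow_ne_zero _ hc) h3

end Groth.Agent.Helper19.ValEt
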