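import Mathlib
import Groth.Agent.Lib.Helper19.ValEt.Torsion

/-!
# The Gauss valuation ring `V[X₁,…,Xₙ]_{𝔪V[X]}`
-/

set_option autoImplicit false
universe u

namespace Groth.Agent.Helper19.ValEt

open MvPolynomial

section

variable (V : Type u) [CommRing V] [IsDomain V] [ValuationRing V] (σ : Type*)

/-- the extension of the maximal ideal of `V` to the polynomial ring -/
noncomputable abbrev gaussIdeal : Ideal (MvPolynomial σ V) :=
  (IsLocalRing.maximalIdeal V).map (C : V →+* MvPolynomial σ V)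

instance gaussIdeal_isPrime : (gaussIdeal V σ).IsPrime := by
  have h := MvPolynomial.ker_map (σ := σ) (Ideal.Quotient.mk (IsLocalRing.maximalIdeal V))
  rw [Ideal.mk_ker] at h
  unfold gaussIdeal
  rw [← h]
  exact RingHom.ker_isPrime _

theorem gauss_factor (g : MvPolynomial σ V) (hg : g ≠ 0) :
    ∃ (v : V) (g₀ : MvPolynomial σ V), v ≠ 0 ∧ g = C v * g₀ ∧ g₀ ∉ gaussIdeal V σ := by
  classical
  have hne : g.support.Nonempty := by
    rw [Finset.nonempty_iff_ne_empty, Ne, MvPolynomial.support_eq_empty]; exact hg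
  obtain ⟨m₀, hm₀, hdiv⟩ := exists_dvd_all g.support hne (fun m => g.coeff m)
  have hv : g.coeff m₀ ≠ 0 := MvPolynomial.mem_support_iff.mp hm₀
  have hex : ∀ m, ∃ u : V, g.coeff m = g.coeff m₀ * u := by
    intro m
    by_cases hm : m ∈ g.support
    · exact hdiv m hm
    · exact ⟨0, by rw [mul_zero]; exact MvPolynomial.notMem_support_iff.mp hm⟩
  choose u hu using hex
  have hu0 : u m₀ = 1 := by
    have h2 : g.coeff m₀ * 1 = g.coeff m₀ * u m₀ := by rw [mul_one]; exact hu m₀
    exact (mul_left_cancel₀ hv h2).symm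
  refine ⟨g.coeff m₀, ∑ m ∈ g.support, monomial m (u m), hv, ?_, ?_⟩
  · rw [Finset.mul_sum]
    conv_lhs => rw [MvPolynomial.as_sum g]
    refine Finset.sum_congr rfl (fun m _ => ?_)
    rw [MvPolynomial.C_mul_monomial, ← hu m]
  · intro hmem
    rw [MvPolynomial.mem_map_C_iff] at hmem
    have h1 := hmem m₀
    rw [MvPolynomial.coeff_sum] at h1
    simp only [MvPolynomial.coeff_monomial] at h1
    rw [Finset.sum_ite_eq' g.support m₀, if_pos hm₀, hu0] at h1
    exact (IsLocalRing.maximalIdeal.isMaximal V).ne_top ((Ideal.eq_top_iff_one _).mpr h1)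

/-- every nonzero element of the Gauss ring is a unit times an element of `V`. -/
theorem gauss_exists_unit_mul (x : Localization.AtPrime (gaussIdeal V σ)) (hx : x ≠ 0) :
    ∃ (v : V) (w : (Localization.AtPrime (gaussIdeal V σ))ˣ),
      x = w * algebraMap V (Localization.AtPrime (gaussIdeal V σ)) v := by
  obtain ⟨g, s, rfl⟩ := IsLocalization.exists_mk'_eq (gaussIdeal V σ).primeCompl x
  have hg : g ≠ 0 := by
    rintro rfl
    exact hx (IsLocalization.mk'_zero _)
  obtain ⟨v, g₀, hv, hgv, hg₀⟩ := gauss_factor V σ g hg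
  have hu : IsUnit (IsLocalization.mk' (Localization.AtPrime (gaussIdeal V σ)) g₀ s) := by
    have h1 : IsUnit (algebraMap (MvPolynomial σ V) (Localization.AtPrime (gaussIdeal V σ)) g₀) :=
      (IsLocalization.AtPrime.isUnit_to_map_iff _ (gaussIdeal V σ) g₀).mpr hg₀
    have h2 : IsUnit (algebraMap (MvPolynomial σ V) (Localization.AtPrime (gaussIdeal V σ)) s) :=
      IsLocalization.map_units _ s
    have h3 : IsLocalization.mk' (Localization.AtPrime (gaussIdeal V σ)) g₀ s *
        algebraMap (MvPolynomial σ V) _ (s : MvPolynomial σ V) = algebraMap _ _ g₀ :=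
      IsLocalization.mk'_spec _ _ _
    exact isUnit_of_mul_isUnit_left (h3 ▸ h1)
  obtain ⟨w, hw⟩ := hu
  refine ⟨v, w, ?_⟩
  rw [hw, IsScalarTower.algebraMap_apply V (MvPolynomial σ V), MvPolynomial.algebraMap_eq,
    mul_comm, IsLocalization.mul_mk'_eq_mk'_of_mul, ← hgv]

instance gauss_valuationRing : ValuationRing (Localization.AtPrime (gaussIdeal V σ)) := by
  rw [ValuationRing.iff_dvd_total]
  refine ⟨fun x y => ?_⟩
  by_cases hx : x = 0
  · right; rw [hx]; exact dvd_zero y
  by_cases hy : y = 0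
  · left; rw [hy]; exact dvd_zero x
  obtain ⟨v, w, rfl⟩ := gauss_exists_unit_mul V σ x hx
  obtain ⟨v', w', rfl⟩ := gauss_exists_unit_mul V σ y hy
  rcases ValuationRing.dvd_total v v' with h | h
  · left
    exact (Units.mul_left_dvd).mpr
      (Dvd.dvd.mul_left ((algebraMap V _).map_dvd h) _)
  · right
    exact (Units.mul_left_dvd).mpr
      (Dvd.dvd.mul_left ((algebraMap V _).map_dvd h) _)

end

end Groth.Agent.Helper19.ValEt
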