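import Mathlib
import Groth.Agent.Lib.Helper19.ValEt.Basic
import Groth.Agent.Lib.Helper19.ValEt.Torsion
import Groth.Agent.Lib.Helper19.ValEt.Descent

/-!
# Local flat unramified extensions of a valuation ring are weakly unramified
-/

set_option autoImplicit false
universe u

namespace Groth.Agent.Helper19.ValEt

open TensorProduct

theorem algebraMap_injective_of_flat (A E : Type*) [CommRing A] [IsDomain A] [CommRing E]
    [Nontrivial E] [Algebra A E] [Module.Flat A E] : Function.Injective (algebraMap A E) := by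
  rw [injective_iff_map_eq_zero]
  intro a ha
  by_contra hne
  have hreg : IsSMulRegular E a :=
    Module.Flat.isSMulRegular_of_nonZeroDivisors (mem_nonZeroDivisors_of_ne_zero hne)
  have h1 : a • (1 : E) = a • (0 : E) := by
    rw [smul_zero, Algebra.smul_def, mul_one, ha]
  exact one_ne_zero (hreg h1)

/-- extension of ideals from a valuation ring: every element is divisible by a single generator. -/
theorem exists_dvd_of_mem_map (A C : Type*) [CommRing A] [IsDomain A] [ValuationRing A]
    [CommRing C] [Algebra A C] (I : Ideal A) (x : C) (hx : x ∈ I.map (algebraMap A C)) :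
    ∃ a ∈ I, algebraMap A C a ∣ x := by
  unfold Ideal.map at hx
  induction hx using Submodule.span_induction with
  | mem x hx =>
    obtain ⟨a, ha, rfl⟩ := hx
    exact ⟨a, ha, dvd_rfl⟩
  | zero => exact ⟨0, I.zero_mem, by simp⟩
  | add x y _ _ hx hy =>
    obtain ⟨a, ha, hax⟩ := hx
    obtain ⟨b, hb, hby⟩ := hy
    rcases ValuationRing.dvd_total a b with h | h
    · exact ⟨a, ha, dvd_add hax (((algebraMap A C).map_dvd h).trans hby)⟩
    · exact ⟨b, hb, dvd_add (((algebraMap A C).map_dvd h).trans hax) hby⟩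
  | smul r x _ hx =>
    obtain ⟨a, ha, hax⟩ := hx
    exact ⟨a, ha, by rw [smul_eq_mul]; exact Dvd.dvd.mul_left hax r⟩

section

variable (A C : Type u) [CommRing A] [IsDomain A] [ValuationRing A]
  [CommRing C] [IsLocalRing C] [Algebra A C] [Module.Flat A C] [Algebra.FormallyUnramified A C]
  [Algebra.EssFiniteType A C]

include A in
/-- the local divisibility in `(C ⊗[A] C)_P` -/
theorem tmul_dvd_tmul_localization (c : C) (hc : c ≠ 0) (P : Ideal (C ⊗[A] C)) [P.IsPrime] :
    algebraMap (C ⊗[A] C) (Localization.AtPrime P) ((1 : C) ⊗ₜ[A] c) ∣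
      algebraMap (C ⊗[A] C) (Localization.AtPrime P) (c ⊗ₜ[A] (1 : C)) := by
  haveI : IsDomain C := isDomain_of_local A C
  haveI : ValuationRing C := valuationRing_of_local A C
  have hinj : Function.Injective (algebraMap A C) := algebraMap_injective_of_flat A C
  haveI : FaithfulSMul A C := (faithfulSMul_iff_algebraMap_injective A C).mpr hinj
  haveI : Algebra.IsAlgebraic A C := isAlgebraic_of_unramified A C
  obtain ⟨n, a, a', w, hn, ha, hrel⟩ := exists_pow_eq_unit_mul A C hinj c hc
  -- instances on D = C ⊗ C and E = D_P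
  haveI : Module.Flat A (C ⊗[A] C) := inferInstance
  haveI : Algebra.FormallyUnramified A (C ⊗[A] C) :=
    Algebra.FormallyUnramified.comp A C (C ⊗[A] C)
  haveI : Algebra.EssFiniteType A (C ⊗[A] C) := Algebra.EssFiniteType.comp A C (C ⊗[A] C)
  haveI : Module.Flat (C ⊗[A] C) (Localization.AtPrime P) :=
    IsLocalization.flat _ P.primeCompl
  haveI : Module.Flat A (Localization.AtPrime P) :=
    Module.Flat.trans A (C ⊗[A] C) (Localization.AtPrime P)
  haveI : Algebra.FormallyUnramified A (Localization.AtPrime P) := inferInstance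
  haveI : Algebra.EssFiniteType A (Localization.AtPrime P) := inferInstance
  haveI : IsDomain (Localization.AtPrime P) := isDomain_of_local A _
  haveI : ValuationRing (Localization.AtPrime P) := valuationRing_of_local A _
  have hinjE : Function.Injective (algebraMap A (Localization.AtPrime P)) :=
    algebraMap_injective_of_flat A _
  let ι₁ : C →ₐ[A] Localization.AtPrime P :=
    (IsScalarTower.toAlgHom A (C ⊗[A] C) (Localization.AtPrime P)).comp
      Algebra.TensorProduct.includeLeft
  let ι₂ : C →ₐ[A] Localization.AtPrime P :=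
    (IsScalarTower.toAlgHom A (C ⊗[A] C) (Localization.AtPrime P)).comp
      Algebra.TensorProduct.includeRight
  have e1 : algebraMap (C ⊗[A] C) (Localization.AtPrime P) (c ⊗ₜ[A] (1 : C)) = ι₁ c := rfl
  have e2 : algebraMap (C ⊗[A] C) (Localization.AtPrime P) ((1 : C) ⊗ₜ[A] c) = ι₂ c := rfl
  rw [e1, e2]
  have h1 : algebraMap A _ a * ι₁ c ^ n = ι₁ w * algebraMap A _ a' := by
    have := congrArg ι₁ hrel
    simpa using this
  have h2 : algebraMap A _ a * ι₂ c ^ n = ι₂ w * algebraMap A _ a' := by
    have := congrArg ι₂ hrel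
    simpa using this
  have ha0 : algebraMap A (Localization.AtPrime P) a ≠ 0 := by
    rw [Ne, map_eq_zero_iff _ hinjE]; exact ha
  have h3 : ι₁ c ^ n * ι₂ w = ι₂ c ^ n * ι₁ w := by
    apply mul_left_cancel₀ ha0
    calc algebraMap A (Localization.AtPrime P) a * (ι₁ c ^ n * ι₂ w)
        = (algebraMap A _ a * ι₁ c ^ n) * ι₂ w := by ring
      _ = (ι₂ w * algebraMap A _ a') * ι₁ w := by rw [h1]; ring
      _ = algebraMap A (Localization.AtPrime P) a * (ι₂ c ^ n * ι₁ w) := by rw [← h2]; ring
  have hu1 : IsUnit (ι₁ (w : C)) := (w.isUnit).map ι₁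
  have hu2 : IsUnit (ι₂ (w : C)) := (w.isUnit).map ι₂
  rcases ValuationRing.dvd_total (ι₂ c) (ι₁ c) with h | ⟨z, hz⟩
  · exact h
  · by_cases hx : ι₁ c = 0
    · rw [hx, zero_mul] at hz
      rw [hz, hx]
    · rw [hz, mul_pow, mul_assoc] at h3
      have h4 := mul_left_cancel₀ (pow_ne_zero n hx) h3
      have hzn : IsUnit (z ^ n) := by
        have : IsUnit (z ^ n * ι₁ (w : C)) := by rw [← h4]; exact hu2
        exact isUnit_of_mul_isUnit_left this
      have hzu : IsUnit z := (isUnit_pow_iff hn.ne').mp hzn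
      obtain ⟨z', rfl⟩ := hzu
      refine ⟨((z'⁻¹ : (Localization.AtPrime P)ˣ) : Localization.AtPrime P), ?_⟩
      rw [hz, mul_assoc, Units.mul_inv, mul_one]

include A in
theorem tmul_dvd_tmul (c : C) (hc : c ≠ 0) :
    ((1 : C) ⊗ₜ[A] c) ∣ (c ⊗ₜ[A] (1 : C)) := by
  rw [← Ideal.mem_span_singleton]
  apply Ideal.mem_of_localization_maximal
  intro P hP
  rw [Ideal.map_span, Set.image_singleton, Ideal.mem_span_singleton]
  exact tmul_dvd_tmul_localization A C c hc P

/-- **Weakly unramified**: every nonzero element of `C` is a unit times an element of `A`. -/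
theorem exists_unit_mul (c : C) (hc : c ≠ 0) :
    ∃ (a : A) (u : Cˣ), c = u * algebraMap A C a := by
  haveI : IsDomain C := isDomain_of_local A C
  have h1 := mem_map_comap_of_tmul_dvd A C c (tmul_dvd_tmul A C c hc)
  obtain ⟨a, ha, y, hy⟩ := exists_dvd_of_mem_map A C _ c h1
  rw [Ideal.mem_comap, Ideal.mem_span_singleton] at ha
  obtain ⟨z, hz⟩ := ha
  have h2 : c * 1 = c * (z * y) := by
    rw [mul_one, ← mul_assoc, ← hz, ← hy]
  have h3 : z * y = 1 := (mul_left_cancel₀ hc h2).symm
  have hyu : IsUnit y := IsUnit.of_mul_eq_one_right z h3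
  obtain ⟨u, rfl⟩ := hyu
  exact ⟨a, u, by rw [hy, mul_comm]⟩

end

end Groth.Agent.Helper19.ValEt
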