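import Mathlib
import Groth.Prelude.Def_Hensel
import Groth.Agent.Lib.Helper19.ValEt.Main
import Groth.Agent.Lib.Helper26.EtSub2

/-!
# Local algebras over a valuation ring all of whose elements come from étale algebras
(e.g. the henselization and the strict henselization)
-/

set_option autoImplicit false
universe u

namespace Groth.Agent.Helper19.ValEt

open IsLocalRing Groth.Agent.Helper26

section

variable (A S : Type u) [CommRing A] [IsDomain A] [ValuationRing A] [CommRing S] [IsLocalRing S]
  [Algebra A S]

section one

variable (C : Type u) [CommRing C] [Algebra A C] [Algebra.Etale A C] (φ : C →ₐ[A] S)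

/-- data of the localization of an étale algebra at the pullback of the maximal ideal -/
theorem exists_localization_data :
    ∃ (m : Ideal C) (_ : m.IsPrime) (ψ : Localization.AtPrime m →+* S),
      (∀ c : C, ψ (algebraMap C (Localization.AtPrime m) c) = φ c) ∧
      (∀ a : A, ψ (algebraMap A (Localization.AtPrime m) a) = algebraMap A S a) := by
  haveI hm : ((maximalIdeal S).comap φ.toRingHom).IsPrime := Ideal.comap_isPrime _ _
  have hunits : ∀ y : ((maximalIdeal S).comap φ.toRingHom).primeCompl,
      IsUnit (φ.toRingHom (y : C)) := by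
    intro y
    have h1 : (y : C) ∉ (maximalIdeal S).comap φ.toRingHom := y.2
    rw [Ideal.mem_comap, mem_maximalIdeal, mem_nonunits_iff, not_not] at h1
    exact h1
  refine ⟨(maximalIdeal S).comap φ.toRingHom, hm, IsLocalization.lift hunits, ?_, ?_⟩
  · intro c
    rw [IsLocalization.lift_eq]; rfl
  · intro a
    rw [IsScalarTower.algebraMap_apply A C (Localization.AtPrime _), IsLocalization.lift_eq]
    exact φ.commutes a

theorem exists_unit_mul_of_algHom (c : C) (hc : φ c ≠ 0) :
    ∃ (a : A) (u : Sˣ), φ c = u * algebraMap A S a := by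
  obtain ⟨m, hm, ψ, hψ, hψA⟩ := exists_localization_data A S C φ
  haveI : Algebra.FiniteType A C := inferInstance
  haveI : Module.Flat A C := inferInstance
  haveI : Module.Flat C (Localization.AtPrime m) := IsLocalization.flat _ m.primeCompl
  haveI : Module.Flat A (Localization.AtPrime m) := Module.Flat.trans A C (Localization.AtPrime m)
  haveI : Algebra.FormallyUnramified A (Localization.AtPrime m) := inferInstance
  haveI : Algebra.EssFiniteType A (Localization.AtPrime m) := inferInstance
  have hc' : algebraMap C (Localization.AtPrime m) c ≠ 0 := by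
    intro h0
    apply hc
    rw [← hψ, h0, map_zero]
  obtain ⟨a, u, hu⟩ := exists_unit_mul A (Localization.AtPrime m) _ hc'
  refine ⟨a, Units.map ψ.toMonoidHom u, ?_⟩
  rw [← hψ, hu, map_mul, hψA]
  rfl

theorem dvd_total_of_algHom (c₁ c₂ : C) : φ c₁ ∣ φ c₂ ∨ φ c₂ ∣ φ c₁ := by
  obtain ⟨m, hm, ψ, hψ, hψA⟩ := exists_localization_data A S C φ
  haveI : Algebra.FiniteType A C := inferInstance
  haveI : Module.Flat A C := inferInstance
  haveI : Module.Flat C (Localization.AtPrime m) := IsLocalization.flat _ m.primeCompl
  haveI : Module.Flat A (Localization.AtPrime m) := Module.Flat.trans A C (Localization.AtPrime m)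
  haveI : Algebra.FormallyUnramified A (Localization.AtPrime m) := inferInstance
  haveI : Algebra.EssFiniteType A (Localization.AtPrime m) := inferInstance
  haveI : IsDomain (Localization.AtPrime m) := isDomain_of_local A _
  haveI : ValuationRing (Localization.AtPrime m) := valuationRing_of_local A _
  rcases ValuationRing.dvd_total (algebraMap C (Localization.AtPrime m) c₁)
    (algebraMap C (Localization.AtPrime m) c₂) with h | h
  · left
    obtain ⟨d, hd⟩ := h
    refine ⟨ψ d, ?_⟩
    rw [← hψ, ← hψ, hd, map_mul]
  · right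
    obtain ⟨d, hd⟩ := h
    refine ⟨ψ d, ?_⟩
    rw [← hψ, ← hψ, hd, map_mul]

end one

variable [Module.Flat A S]

theorem of_isEt (hEt : ∀ x : S, EtSub.IsEt A S x) :
    IsDomain S ∧ (∀ _ : IsDomain S, ValuationRing S) ∧ Function.Injective (algebraMap A S) ∧
      ∀ s : S, s ≠ 0 → ∃ (a : A) (u : Sˣ), s = u * algebraMap A S a := by
  have hinj : Function.Injective (algebraMap A S) := algebraMap_injective_of_flat A S
  have hunit : ∀ s : S, s ≠ 0 → ∃ (a : A) (u : Sˣ), s = u * algebraMap A S a := by
    intro s hs
    obtain ⟨C, _, _, _, φ, c, rfl⟩ := hEt s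
    exact exists_unit_mul_of_algHom A S C φ c hs
  have hdom : IsDomain S := by
    haveI : NoZeroDivisors S := by
      refine ⟨fun {x y} hxy => ?_⟩
      by_contra hcon
      push Not at hcon
      obtain ⟨a, u, hu⟩ := hunit x hcon.1
      obtain ⟨b, v, hv⟩ := hunit y hcon.2
      have ha : a ≠ 0 := by
        rintro rfl
        rw [map_zero, mul_zero] at hu
        exact hcon.1 hu
      have hb : b ≠ 0 := by
        rintro rfl
        rw [map_zero, mul_zero] at hv
        exact hcon.2 hv
      have h1 : ((u * v : Sˣ) : S) * algebraMap A S (a * b) = 0 := by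
        rw [← hxy, hu, hv, map_mul, Units.val_mul]; ring
      rw [Units.mul_right_eq_zero, map_eq_zero_iff _ hinj] at h1
      exact mul_ne_zero ha hb h1
    exact NoZeroDivisors.to_isDomain S
  refine ⟨hdom, fun _ => ?_, hinj, hunit⟩
  rw [ValuationRing.iff_dvd_total]
  refine ⟨fun x y => ?_⟩
  obtain ⟨C, _, _, _, φ, c, hc⟩ := EtSub.exists_common 2 ![x, y] (by
    intro i
    fin_cases i
    · exact hEt x
    · exact hEt y)
  have h0 : φ (c 0) = x := by simpa using hc 0
  have h1 : φ (c 1) = y := by simpa using hc 1
  rw [← h0, ← h1]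
  exact dvd_total_of_algHom A S C φ (c 0) (c 1)

end

/-- every element of a henselization of a local ring comes from an étale algebra. -/
theorem isEt_of_isHenselization (R : Type u) [CommRing R] [IsLocalRing R] (Rh : Type u)
    [CommRing Rh] [IsLocalRing Rh] [Algebra R Rh] [IsLocalHom (algebraMap R Rh)]
    [Hensel.IsHenselization R Rh] (x : Rh) : EtSub.IsEt R Rh x := by
  haveI : HenselianLocalRing Rh := Hensel.IsHenselization.henselian (R := R) (S := Rh)
  let T' := EtSub.sub R Rh
  let ι : T' →+* Rh := algebraMap T' Rh
  let j : R →+* T' := algebraMap R T'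
  have hιj : ι.comp j = algebraMap R Rh := rfl
  have hjloc : IsLocalHom j := by
    constructor
    intro y hy
    have h1 : IsUnit (ι (j y)) := hy.map ι
    exact isUnit_of_map_unit (algebraMap R Rh) y h1
  obtain ⟨g, hg, -⟩ := Hensel.IsHenselization.universal (R := R) (S := Rh) T' j hjloc
  have hg' : g.comp (algebraMap R Rh) = j := hg
  obtain ⟨i, -, hiu⟩ := Hensel.IsHenselization.universal (R := R) (S := Rh)
    Rh (algebraMap R Rh) inferInstance
  have e1 : ι.comp g = i := by
    apply hiu
    change (ι.comp g).comp (algebraMap R Rh) = _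
    rw [RingHom.comp_assoc, hg', hιj]
  have e2 : RingHom.id Rh = i := by
    apply hiu
    rfl
  have e3 : ι (g x) = x := by
    have := DFunLike.congr_fun (e1.trans e2.symm) x
    exact this
  rw [← e3]
  exact (g x).2

end Groth.Agent.Helper19.ValEt
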