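import Mathlib
import Groth.Agent.Lib.Helper19.ValEt.Main
import Groth.Agent.Lib.Helper19.ValEt.Gauss

/-!
# Algebras étale over a polynomial ring over a valuation ring, at generic points of the
special fibre
-/

set_option autoImplicit false
universe u

namespace Groth.Agent.Helper19.ValEt

open MvPolynomial

theorem etale_over_mvPolynomial (V : Type u) [CommRing V] [IsDomain V] [ValuationRing V] (n : ℕ)
    (T : Type u) [CommRing T] [Algebra V T] [Algebra (MvPolynomial (Fin n) V) T]
    [IsScalarTower V (MvPolynomial (Fin n) V) T] [Algebra.Etale (MvPolynomial (Fin n) V) T]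
    (q : Ideal T) [q.IsPrime]
    (hq : q ∈ ((IsLocalRing.maximalIdeal V).map (algebraMap V T)).minimalPrimes) :
    IsDomain (Localization.AtPrime q) ∧
      (∀ _ : IsDomain (Localization.AtPrime q), ValuationRing (Localization.AtPrime q)) ∧
      ∀ x : Localization.AtPrime q, x ≠ 0 →
        ∃ (v : V) (w : (Localization.AtPrime q)ˣ),
          x = algebraMap V (Localization.AtPrime q) v * w := by
  haveI : Module.Flat (MvPolynomial (Fin n) V) T := inferInstance
  haveI : Algebra.FiniteType (MvPolynomial (Fin n) V) T := inferInstance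
  -- m_V T ≤ Q whenever gaussIdeal ≤ Q.under
  have hle : ∀ Q : Ideal T, gaussIdeal V (Fin n) ≤ Q.under (MvPolynomial (Fin n) V) →
      (IsLocalRing.maximalIdeal V).map (algebraMap V T) ≤ Q := by
    intro Q hQ
    rw [Ideal.map_le_iff_le_comap]
    intro v hv
    rw [Ideal.mem_comap, IsScalarTower.algebraMap_apply V (MvPolynomial (Fin n) V) T]
    have : (algebraMap V (MvPolynomial (Fin n) V)) v ∈ gaussIdeal V (Fin n) :=
      Ideal.mem_map_of_mem _ hv
    exact hQ this
  have hge : gaussIdeal V (Fin n) ≤ q.under (MvPolynomial (Fin n) V) := by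
    unfold gaussIdeal
    rw [Ideal.map_le_iff_le_comap]
    intro v hv
    rw [Ideal.mem_comap, Ideal.under, Ideal.mem_comap]
    have h1 : algebraMap V T v ∈ q := hq.1.2 (Ideal.mem_map_of_mem _ hv)
    rw [IsScalarTower.algebraMap_apply V (MvPolynomial (Fin n) V) T] at h1
    exact h1
  haveI hlo : q.LiesOver (gaussIdeal V (Fin n)) := by
    constructor
    haveI : q.LiesOver (q.under (MvPolynomial (Fin n) V)) := ⟨rfl⟩
    obtain ⟨Q', hQ'q, hQ'prime, hQ'lo⟩ := Ideal.exists_ideal_le_liesOver_of_le
      (p := gaussIdeal V (Fin n)) (q := q.under (MvPolynomial (Fin n) V)) q hge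
    have h1 : (IsLocalRing.maximalIdeal V).map (algebraMap V T) ≤ Q' :=
      hle Q' (hQ'lo.over).le
    have h2 : q ≤ Q' := hq.2 ⟨hQ'prime, h1⟩ hQ'q
    have h3 : Q' = q := le_antisymm hQ'q h2
    rw [← h3]
    exact hQ'lo.over
  letI := Localization.AtPrime.algebraOfLiesOver (gaussIdeal V (Fin n)) q
  haveI : Module.Flat (Localization.AtPrime (gaussIdeal V (Fin n))) (Localization.AtPrime q) :=
    inferInstance
  haveI : Algebra.FormallyUnramified (MvPolynomial (Fin n) V) (Localization.AtPrime q) :=
    inferInstance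
  haveI : Algebra.FormallyUnramified (Localization.AtPrime (gaussIdeal V (Fin n)))
      (Localization.AtPrime q) :=
    Algebra.FormallyUnramified.of_restrictScalars (MvPolynomial (Fin n) V) _ _
  haveI : Algebra.EssFiniteType (MvPolynomial (Fin n) V) (Localization.AtPrime q) := inferInstance
  haveI : Algebra.EssFiniteType (Localization.AtPrime (gaussIdeal V (Fin n)))
      (Localization.AtPrime q) :=
    Algebra.EssFiniteType.of_comp (MvPolynomial (Fin n) V) _ _
  have hdom : IsDomain (Localization.AtPrime q) :=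
    isDomain_of_local (Localization.AtPrime (gaussIdeal V (Fin n))) _
  refine ⟨hdom, fun _ => valuationRing_of_local (Localization.AtPrime (gaussIdeal V (Fin n))) _,
    ?_⟩
  intro x hx
  obtain ⟨v', u, hxu⟩ := exists_unit_mul (Localization.AtPrime (gaussIdeal V (Fin n))) _ x hx
  have hv' : v' ≠ 0 := by
    rintro rfl
    rw [map_zero, mul_zero] at hxu
    exact hx hxu
  obtain ⟨v, w', hv⟩ := gauss_exists_unit_mul V (Fin n) v' hv'
  refine ⟨v, u * Units.map (algebraMap (Localization.AtPrime (gaussIdeal V (Fin n)))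
    (Localization.AtPrime q)).toMonoidHom w', ?_⟩
  rw [hxu, hv, map_mul, ← IsScalarTower.algebraMap_apply V
    (Localization.AtPrime (gaussIdeal V (Fin n))) (Localization.AtPrime q)]
  simp only [Units.val_mul, Units.coe_map, RingHom.toMonoidHom_eq_coe, MonoidHom.coe_coe]
  ring

end Groth.Agent.Helper19.ValEt
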